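import Groth.Prelude.Def_PP16
import Mathlib.LinearAlgebra.TensorProduct.RightExactness
import Mathlib.RingTheory.Kaehler.Basic
import Mathlib.RingTheory.Ideal.Quotient.Operations

/-! helper18: basic lemmas on principal parts `PP16.P` -/

set_option autoImplicit false
universe u
open scoped TensorProduct
open PP16

namespace Groth.Agent.H18

variable (n : ℕ) (A B : Type u) [CommRing A] [CommRing B] [Algebra A B] (K : Ideal B)

theorem tensorMap_eq_map :
    tensorMap A B A (B ⧸ K) =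
      Algebra.TensorProduct.map (Ideal.Quotient.mkₐ A K) (Ideal.Quotient.mkₐ A K) := by
  apply Algebra.TensorProduct.ext'
  intro a b
  rw [tensorMap_tmul]
  rfl

theorem tensorMap_quot_surjective : Function.Surjective (tensorMap A B A (B ⧸ K)) := by
  rw [tensorMap_eq_map]
  exact Algebra.TensorProduct.map_surjective _ _ (Ideal.Quotient.mkₐ_surjective A K) (Ideal.Quotient.mkₐ_surjective A K)

theorem ker_tensorMap_quot :
    RingHom.ker (tensorMap A B A (B ⧸ K)) =
      K.map (Algebra.TensorProduct.includeLeft : B →ₐ[A] B ⊗[A] B) ⊔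
        K.map (Algebra.TensorProduct.includeRight : B →ₐ[A] B ⊗[A] B) := by
  rw [tensorMap_eq_map]
  rw [Algebra.TensorProduct.map_ker _ _ (Ideal.Quotient.mkₐ_surjective A K) (Ideal.Quotient.mkₐ_surjective A K)]
  have h : RingHom.ker (Ideal.Quotient.mkₐ A K) = K := Ideal.Quotient.mkₐ_ker A K
  rw [h]

theorem ideal_map_tensorMap_quot :
    (KaehlerDifferential.ideal A B).map (tensorMap A B A (B ⧸ K)) = KaehlerDifferential.ideal A (B ⧸ K) := by
  apply le_antisymm (ideal_map_tensorMap_le A B A (B ⧸ K))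
  rw [← KaehlerDifferential.span_range_eq_ideal, Ideal.span_le]
  rintro _ ⟨c, rfl⟩
  obtain ⟨b, rfl⟩ := Ideal.Quotient.mk_surjective c
  have : (1 : B ⧸ K) ⊗ₜ[A] (Ideal.Quotient.mk K b) - (Ideal.Quotient.mk K b) ⊗ₜ[A] (1 : B ⧸ K) =
      tensorMap A B A (B ⧸ K) ((1 : B) ⊗ₜ[A] b - b ⊗ₜ[A] (1 : B)) := by
    rw [map_sub, tensorMap_tmul, tensorMap_tmul, map_one]; rfl
  show (1 : B ⧸ K) ⊗ₜ[A] (Ideal.Quotient.mk K b) - (Ideal.Quotient.mk K b) ⊗ₜ[A] (1 : B ⧸ K) ∈ _
  rw [this]
  exact Ideal.mem_map_of_mem _ (KaehlerDifferential.one_smul_sub_smul_one_mem_ideal A b)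

end Groth.Agent.H18

namespace Groth.Agent.H18

theorem quotPow_surj_ker {S S' : Type*} [CommRing S] [CommRing S'] (t : S →+* S')
    (ht : Function.Surjective t) (I : Ideal S) (I' : Ideal S') (hI : I.map t = I') (m : ℕ)
    (q : S ⧸ I ^ m →+* S' ⧸ I' ^ m)
    (hq : ∀ x, q (Ideal.Quotient.mk _ x) = Ideal.Quotient.mk _ (t x)) :
    Function.Surjective q ∧ RingHom.ker q = (RingHom.ker t).map (Ideal.Quotient.mk (I ^ m)) := by
  constructor
  · intro y
    obtain ⟨y, rfl⟩ := Ideal.Quotient.mk_surjective y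
    obtain ⟨x, rfl⟩ := ht y
    exact ⟨Ideal.Quotient.mk _ x, hq x⟩
  · ext y
    obtain ⟨x, rfl⟩ := Ideal.Quotient.mk_surjective y
    rw [RingHom.mem_ker, hq, Ideal.Quotient.eq_zero_iff_mem, ← hI, ← Ideal.map_pow,
      ← Ideal.mem_comap, Ideal.comap_map_of_surjective t ht]
    rw [Ideal.mem_map_iff_of_surjective _ Ideal.Quotient.mk_surjective]
    constructor
    · intro hx
      obtain ⟨a, ha, b, hb, rfl⟩ := Submodule.mem_sup.mp hx
      refine ⟨b, ?_, ?_⟩
      · simpa [RingHom.mem_ker, Ideal.mem_comap] using hb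
      · rw [map_add, (Ideal.Quotient.eq_zero_iff_mem).mpr ha, zero_add]
    · rintro ⟨b, hb, hbx⟩
      have : x - b ∈ I ^ m := by
        rw [← Ideal.Quotient.eq_zero_iff_mem, map_sub, hbx, sub_self]
      have hx : x = (x - b) + b := by ring
      rw [hx]
      exact Submodule.add_mem_sup this (by simpa [Ideal.mem_comap] using hb)

end Groth.Agent.H18

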