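import Groth.Agent.H18.PPBasic
import Mathlib.LinearAlgebra.TensorProduct.Quotient

/-! helper18: principal parts along a tower `A → B → C` -/

set_option autoImplicit false
universe u
open scoped TensorProduct
open PP16

namespace Groth.Agent.H18

variable (n : ℕ) (A B C : Type u) [CommRing A] [CommRing B] [CommRing C]
    [Algebra A B] [Algebra B C] [Algebra A C] [IsScalarTower A B C]

theorem tensorMap_tower_apply (x : C ⊗[A] C) :
    tensorMap A C B C x = TensorProduct.mapOfCompatibleSMul B A B C C x := by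
  induction x using TensorProduct.induction_on with
  | zero => simp
  | tmul c c' => rw [tensorMap_tmul]; simp
  | add x y hx hy => rw [map_add, map_add, hx, hy]

theorem tensorMap_tower_surjective : Function.Surjective (tensorMap A C B C) := by
  intro y
  obtain ⟨x, rfl⟩ := TensorProduct.mapOfCompatibleSMul_surjective B A B C C y
  exact ⟨x, tensorMap_tower_apply A B C x⟩

theorem smul_eq_tmul_one_mul (b : B) (x : C ⊗[A] C) :
    b • x = (algebraMap B C b ⊗ₜ[A] (1 : C)) * x := by
  induction x using TensorProduct.induction_on with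
  | zero => simp
  | tmul c c' =>
    rw [Algebra.TensorProduct.tmul_mul_tmul, one_mul, TensorProduct.smul_tmul', Algebra.smul_def]
  | add x y hx1 hy1 => rw [smul_add, mul_add, hx1, hy1]

theorem ker_tensorMap_tower :
    RingHom.ker (tensorMap A C B C) = (KaehlerDifferential.ideal A B).map (tensorMap A B A C) := by
  apply le_antisymm
  · intro x hx
    rw [RingHom.mem_ker, tensorMap_tower_apply] at hx
    have hx' : x ∈ LinearMap.ker (TensorProduct.mapOfCompatibleSMul B A B C C) := hx
    rw [TensorProduct.AlgebraTensorModule.ker_mapOfCompatibleSMul] at hx'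
    refine Submodule.span_induction ?_ ?_ ?_ ?_ hx'
    · rintro _ ⟨b, c, c', rfl⟩
      have : (b • c) ⊗ₜ[A] c' - c ⊗ₜ[A] (b • c') =
          (c ⊗ₜ[A] c') * (- tensorMap A B A C ((1 : B) ⊗ₜ[A] b - b ⊗ₜ[A] (1 : B))) := by
        rw [map_sub, tensorMap_tmul, tensorMap_tmul, map_one, neg_sub, mul_sub,
          Algebra.TensorProduct.tmul_mul_tmul, Algebra.TensorProduct.tmul_mul_tmul, mul_one, mul_one,
          Algebra.smul_def, Algebra.smul_def, mul_comm c, mul_comm c']
      rw [this]
      apply Ideal.mul_mem_left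
      apply neg_mem
      exact Ideal.mem_map_of_mem _ (KaehlerDifferential.one_smul_sub_smul_one_mem_ideal A b)
    · exact Ideal.zero_mem _
    · intro x y _ _ hx hy; exact Ideal.add_mem _ hx hy
    · intro b x _ hx
      rw [smul_eq_tmul_one_mul]
      exact Ideal.mul_mem_left _ _ hx
  · rw [Ideal.map_le_iff_le_comap, ← KaehlerDifferential.span_range_eq_ideal, Ideal.span_le]
    rintro _ ⟨b, rfl⟩
    show tensorMap A C B C (tensorMap A B A C ((1 : B) ⊗ₜ[A] b - b ⊗ₜ[A] (1 : B))) = 0
    rw [map_sub, tensorMap_tmul, tensorMap_tmul, map_one, map_sub, tensorMap_tmul, tensorMap_tmul]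
    simp only [Algebra.algebraMap_self, RingHom.id_apply, map_one]
    rw [Algebra.algebraMap_eq_smul_one, TensorProduct.smul_tmul, sub_self]

end Groth.Agent.H18

namespace Groth.Agent.H18

variable (n : ℕ) (A B C : Type u) [CommRing A] [CommRing B] [CommRing C]
    [Algebra A B] [Algebra B C] [Algebra A C] [IsScalarTower A B C]

theorem ideal_map_tensorMap_tower :
    (KaehlerDifferential.ideal A C).map (tensorMap A C B C) = KaehlerDifferential.ideal B C := by
  apply le_antisymm (ideal_map_tensorMap_le A C B C)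
  rw [← KaehlerDifferential.span_range_eq_ideal, Ideal.span_le]
  rintro _ ⟨c, rfl⟩
  have : (1 : C) ⊗ₜ[B] c - c ⊗ₜ[B] (1 : C) =
      tensorMap A C B C ((1 : C) ⊗ₜ[A] c - c ⊗ₜ[A] (1 : C)) := by
    rw [map_sub, tensorMap_tmul, tensorMap_tmul, map_one]; rfl
  show (1 : C) ⊗ₜ[B] c - c ⊗ₜ[B] (1 : C) ∈ _
  rw [this]
  exact Ideal.mem_map_of_mem _ (KaehlerDifferential.one_smul_sub_smul_one_mem_ideal A c)

end Groth.Agent.H18
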